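import Cfsg.Agent.H497.Stein.Eng
import Cfsg.Agent.H792.SpHeis

/-!
# `Moved p G` from an explicit Sylow `p`-subgroup of order `p ^ 3` and exponent `p` (helper497)

* `moved_of_heis_gen` : `z`, `y` and the `x * y ^ j` are moved;
* `moved_of_heis` : `c` acts on `⟨x, y⟩` modulo `⟨z⟩` as the `a`-th power, `a ≢ 0, 1`; `z` is moved;
* `moved_of_heis'` : the same with `a² ≢ 1`.
-/

set_option autoImplicit false

namespace Cfsg.Agent.H497.Stein

open Subgroup Cfsg Cfsg.Agent.H792.SpCube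

universe u

section heis

variable {p : ℕ} {G : Type u} [Group G] {x y z : G}

theorem Heis.zx (h : Heis p x y z) (i j : ℤ) : x ^ i * z ^ j = z ^ j * x ^ i :=
  ((show Commute x z from h.xz).zpow_left i |>.zpow_right j).eq

theorem Heis.zy (h : Heis p x y z) (i j : ℤ) : y ^ i * z ^ j = z ^ j * y ^ i :=
  ((show Commute y z from h.yz).zpow_left i |>.zpow_right j).eq

theorem Heis.conj_x (h : Heis p x y z) (j i : ℤ) : y ^ j * x ^ i * (y ^ j)⁻¹ = x ^ i * z ^ (j * i) := by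
  -- `x⁻¹ y x = y z`
  have h1 : x⁻¹ * y * x = y * z := by
    calc x⁻¹ * y * x = x⁻¹ * (y * x) := by group
      _ = x⁻¹ * (x * y * z) := by rw [h.yx]
      _ = y * z := by group
  have h2 : x⁻¹ * y ^ j * x = y ^ j * z ^ j := by
    have h3 : x⁻¹ * y ^ j * x = (x⁻¹ * y * x) ^ j := by
      have := conj_zpow (i := j) (a := x⁻¹) (b := y)
      rw [inv_inv] at this
      exact this.symm
    rw [h3, h1, (show Commute y z from h.yz).mul_zpow]
  have h3 : y ^ j * x * (y ^ j)⁻¹ = x * z ^ j := by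
    calc y ^ j * x * (y ^ j)⁻¹ = x * (x⁻¹ * y ^ j * x) * (y ^ j)⁻¹ := by group
      _ = x * (y ^ j * z ^ j) * (y ^ j)⁻¹ := by rw [h2]
      _ = x * (z ^ j * y ^ j) * (y ^ j)⁻¹ := by rw [Heis.zy h]
      _ = x * z ^ j := by group
  rw [← conj_zpow, h3, (show Commute x (z ^ j) from (show Commute x z from h.xz).zpow_right j).mul_zpow, ← zpow_mul]

theorem Heis.yx' (h : Heis p x y z) (j i : ℤ) : y ^ j * x ^ i = x ^ i * y ^ j * z ^ (j * i) := by
  have h1 := Heis.conj_x h j i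
  rw [mul_inv_eq_iff_eq_mul] at h1
  rw [h1, mul_assoc, ← Heis.zy h, ← mul_assoc]

/-- the product formula -/
theorem Heis.mul (h : Heis p x y z) (i j k i' j' k' : ℤ) :
    (x ^ i * y ^ j * z ^ k) * (x ^ i' * y ^ j' * z ^ k') = x ^ (i + i') * y ^ (j + j') * z ^ (k + k' + j * i') := by
  calc (x ^ i * y ^ j * z ^ k) * (x ^ i' * y ^ j' * z ^ k')
      = x ^ i * y ^ j * (z ^ k * x ^ i') * y ^ j' * z ^ k' := by group
    _ = x ^ i * y ^ j * (x ^ i' * z ^ k) * y ^ j' * z ^ k' := by rw [Heis.zx h]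
    _ = x ^ i * (y ^ j * x ^ i') * (z ^ k * y ^ j') * z ^ k' := by group
    _ = x ^ i * (x ^ i' * y ^ j * z ^ (j * i')) * (y ^ j' * z ^ k) * z ^ k' := by rw [Heis.yx' h, Heis.zy h]
    _ = x ^ i * x ^ i' * y ^ j * (z ^ (j * i') * y ^ j') * z ^ k * z ^ k' := by group
    _ = x ^ i * x ^ i' * y ^ j * (y ^ j' * z ^ (j * i')) * z ^ k * z ^ k' := by rw [Heis.zy h]
    _ = _ := by group

/-- conjugation by `y ^ t` -/
theorem Heis.conj_y (h : Heis p x y z) (t i j k : ℤ) :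
    y ^ t * (x ^ i * y ^ j * z ^ k) * (y ^ t)⁻¹ = x ^ i * y ^ j * z ^ (k + t * i) := by
  calc y ^ t * (x ^ i * y ^ j * z ^ k) * (y ^ t)⁻¹
      = (y ^ t * x ^ i * (y ^ t)⁻¹) * (y ^ j * (y ^ t * z ^ k)) * (y ^ t)⁻¹ := by group
    _ = (x ^ i * z ^ (t * i)) * (y ^ j * (z ^ k * y ^ t)) * (y ^ t)⁻¹ := by rw [Heis.conj_x h, Heis.zy h]
    _ = x ^ i * (z ^ (t * i) * y ^ j) * z ^ k := by group
    _ = x ^ i * (y ^ j * z ^ (t * i)) * z ^ k := by rw [Heis.zy h]
    _ = _ := by rw [mul_assoc, mul_assoc, mul_assoc, ← zpow_add, add_comm (t * i)]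

/-- conjugation by `x ^ t` -/
theorem Heis.conj_x' (h : Heis p x y z) (t i j k : ℤ) :
    x ^ t * (x ^ i * y ^ j * z ^ k) * (x ^ t)⁻¹ = x ^ i * y ^ j * z ^ (k - j * t) := by
  have h1 : x ^ t * (x ^ i * y ^ j * z ^ k) = (x ^ i * y ^ j * z ^ (k - j * t)) * x ^ t := by
    have h2 := Heis.mul h t 0 0 i j k
    have h3 := Heis.mul h i j (k - j * t) t 0 0
    rw [zpow_zero, zpow_zero, mul_one, mul_one] at h2 h3
    rw [h2, h3, add_comm t i]
    congr 1
    · congr 2; ring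
    · congr 1; ring
  rw [h1, mul_inv_cancel_right]

/-- the elements of the group -/
theorem Heis.exists_eq (h : Heis p x y z) {s : G} (hs : s ∈ (zpowers y ⊔ (zpowers x ⊔ zpowers z) : Subgroup G)) :
    ∃ i j k : ℤ, s = x ^ i * y ^ j * z ^ k := by
  let K : Subgroup G :=
    { carrier := {s | ∃ i j k : ℤ, s = x ^ i * y ^ j * z ^ k}
      one_mem' := ⟨0, 0, 0, by simp⟩
      mul_mem' := by
        rintro _ _ ⟨i, j, k, rfl⟩ ⟨i', j', k', rfl⟩
        exact ⟨_, _, _, Heis.mul h i j k i' j' k'⟩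
      inv_mem' := by
        rintro _ ⟨i, j, k, rfl⟩
        refine ⟨-i, -j, -k + j * i, ?_⟩
        rw [inv_eq_iff_mul_eq_one, Heis.mul h]
        have e : k + (-k + j * i) + j * (-i) = 0 := by ring
        rw [e, add_neg_cancel, add_neg_cancel]
        simp }
  have h1 : (zpowers y ⊔ (zpowers x ⊔ zpowers z) : Subgroup G) ≤ K := by
    refine sup_le ?_ (sup_le ?_ ?_)
    · rw [zpowers_le]; exact ⟨0, 1, 0, by simp⟩
    · rw [zpowers_le]; exact ⟨1, 0, 0, by simp⟩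
    · rw [zpowers_le]; exact ⟨0, 0, 1, by simp⟩
  exact h1 hs

/-- powers -/
theorem Heis.pow' (h : Heis p x y z) (i j k : ℤ) (n : ℕ) :
    (x ^ i * y ^ j * z ^ k) ^ n = x ^ (n * i) * y ^ (n * j) * z ^ (n * k + (n.choose 2) * (j * i)) := by
  induction n with
  | zero => simp
  | succ n ih =>
    rw [pow_succ, ih, Heis.mul h]
    have e1 : (n : ℤ) * i + i = ((n + 1 : ℕ) : ℤ) * i := by push_cast; ring
    have e2 : (n : ℤ) * j + j = ((n + 1 : ℕ) : ℤ) * j := by push_cast; ring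
    have e3 : (n : ℤ) * k + (n.choose 2) * (j * i) + k + n * j * i =
        ((n + 1 : ℕ) : ℤ) * k + ((n + 1).choose 2 : ℕ) * (j * i) := by
      rw [Nat.choose_succ_succ' n 1, Nat.choose_one_right]
      push_cast; ring
    rw [e1, e2, e3]

theorem Heis.pow (h : Heis p x y z) (i j k : ℤ) (n : ℕ) :
    ∃ m : ℤ, (x ^ i * y ^ j * z ^ k) ^ n = x ^ (n * i) * y ^ (n * j) * z ^ m := ⟨_, Heis.pow' h i j k n⟩

theorem zpow_dvd {g : G} (hg : g ^ p = 1) {i : ℤ} (hi : (p : ℤ) ∣ i) : g ^ i = 1 := by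
  obtain ⟨k, rfl⟩ := hi
  rw [zpow_mul, zpow_natCast, hg, one_zpow]

theorem exists_sol [hp : Fact p.Prime] {i : ℤ} (hi : ¬ (p : ℤ) ∣ i) (k : ℤ) : ∃ t : ℤ, (p : ℤ) ∣ k + t * i := by
  have hc : IsCoprime (p : ℤ) i := (Nat.prime_iff_prime_int.1 hp.out).coprime_iff_not_dvd.2 hi
  obtain ⟨u, v, huv⟩ := hc
  refine ⟨-k * v, k * u, ?_⟩
  linear_combination (-k) * huv

/-- the exponent -/
theorem Heis.pow_p [hp : Fact p.Prime] (hp2 : p ≠ 2) (h : Heis p x y z) (i j k : ℤ) :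
    (x ^ i * y ^ j * z ^ k) ^ p = 1 := by
  rw [Heis.pow' h, zpow_dvd h.x_pow ⟨i, rfl⟩, zpow_dvd h.y_pow ⟨j, rfl⟩, zpow_dvd h.z_pow ?_, mul_one, mul_one]
  have h1 : p ∣ p.choose 2 :=
    hp.out.dvd_choose_self (by norm_num) (lt_of_le_of_ne hp.out.two_le (fun e => hp2 e.symm))
  exact dvd_add ⟨k, rfl⟩ (Dvd.dvd.mul_right (by exact_mod_cast h1) _)

/-- noncentral elements in the same coset of `⟨z⟩` are conjugate -/
theorem Heis.conj_coset [hp : Fact p.Prime] (h : Heis p x y z) {i j : ℤ} (hij : ¬ ((p : ℤ) ∣ i ∧ (p : ℤ) ∣ j))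
    (k k' : ℤ) : IsConj (x ^ i * y ^ j * z ^ k) (x ^ i * y ^ j * z ^ k') := by
  rw [isConj_iff]
  by_cases hi : (p : ℤ) ∣ i
  · have hj : ¬ (p : ℤ) ∣ j := fun hj => hij ⟨hi, hj⟩
    obtain ⟨t, ht⟩ := exists_sol (p := p) hj (k' - k)
    refine ⟨x ^ t, ?_⟩
    rw [Heis.conj_x' h]
    congr 1
    have e : k - j * t = k' - (k' - k + t * j) := by ring
    rw [e, zpow_sub, zpow_dvd h.z_pow ht, inv_one, mul_one]
  · obtain ⟨t, ht⟩ := exists_sol (p := p) hi (k - k')
    refine ⟨y ^ t, ?_⟩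
    rw [Heis.conj_y h]
    congr 1
    have e : k + t * i = k' + (k - k' + t * i) := by ring
    rw [e, zpow_add, zpow_dvd h.z_pow ht, mul_one]

/-- powers of moved elements of order `p` -/
theorem MovedAt.pow [hp : Fact p.Prime] {s : G} (hs : s ^ p = 1) (h : MovedAt s) {n : ℕ} (hn : ¬ p ∣ n) :
    MovedAt (s ^ n) := by
  obtain ⟨g, j, h1, h2⟩ := h
  refine ⟨g, j, ?_, ?_⟩
  · rw [← conj_pow, h1, ← pow_mul, ← pow_mul, mul_comm]
  · intro h3
    apply h2
    -- `m n ≡ 1`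
    have hc : IsCoprime (p : ℤ) n :=
      (Nat.prime_iff_prime_int.1 hp.out).coprime_iff_not_dvd.2 (by exact_mod_cast hn)
    obtain ⟨a, b, hab⟩ := hc
    have h4 : ∀ r : G, r ^ p = 1 → (r ^ n) ^ b = r := by
      intro r hr
      rw [← zpow_natCast, ← zpow_mul]
      have e : (n : ℤ) * b = 1 - p * a := by linear_combination hab
      rw [e, zpow_sub, zpow_one, zpow_mul, zpow_natCast, hr, one_zpow, inv_one, mul_one]
    calc s ^ j = ((s ^ j) ^ n) ^ b := (h4 _ (by rw [← pow_mul, mul_comm, pow_mul, hs, one_pow])).symm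
      _ = ((s ^ n) ^ j) ^ b := by rw [← pow_mul, ← pow_mul, mul_comm j n]
      _ = (s ^ n) ^ b := by rw [h3]
      _ = s := h4 s hs

theorem movedAt_of_pow [hp : Fact p.Prime] {s : G} (hs : s ^ p = 1) {n : ℕ} (hn : ¬ p ∣ n) (h : MovedAt (s ^ n)) :
    MovedAt s := by
  have hc : IsCoprime (p : ℤ) n :=
    (Nat.prime_iff_prime_int.1 hp.out).coprime_iff_not_dvd.2 (by exact_mod_cast hn)
  obtain ⟨a, b, hab⟩ := hc
  have hp0 : (p : ℤ) ≠ 0 := by exact_mod_cast hp.out.ne_zero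
  have h1 : (0 : ℤ) ≤ b % p := Int.emod_nonneg _ hp0
  obtain ⟨m, hm⟩ := Int.eq_ofNat_of_zero_le h1
  have hnm : (n : ℤ) * m = 1 + p * (-a - n * (b / p)) := by
    have h2 := Int.emod_add_mul_ediv b p
    have h3 : (m : ℤ) = b - p * (b / p) := by
      have : (b % p : ℤ) = m := hm
      linarith
    rw [h3]
    linear_combination hab
  have hpm : ¬ p ∣ m := by
    intro hd
    have h2 : (p : ℤ) ∣ 1 := by
      have h3 : (p : ℤ) ∣ (n : ℤ) * m := Dvd.dvd.mul_left (by exact_mod_cast hd) _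
      rw [hnm] at h3
      exact (Int.dvd_add_left (Dvd.intro _ rfl)).1 h3
    exact hp.out.one_lt.ne' (by exact_mod_cast Int.eq_one_of_dvd_one (by positivity) h2)
  have h2 := h.pow (n := m) (by rw [← pow_mul, mul_comm, pow_mul, hs, one_pow]) hpm
  have h3 : (s ^ n) ^ m = s := by
    rw [← pow_mul, ← zpow_natCast]
    push_cast
    rw [hnm, zpow_add, zpow_one, zpow_mul, zpow_natCast, hs, one_zpow, mul_one]
  rwa [h3] at h2

/-- **The elements of an explicit Sylow subgroup.** -/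
theorem moved_of_heis_gen [Finite G] [hp : Fact p.Prime] (hp2 : p ≠ 2) (h4 : ¬ p ^ 4 ∣ Nat.card G) (h : Heis p x y z)
    (hz : MovedAt z) (hy : MovedAt y) (hxy : ∀ j < p, MovedAt (x * y ^ j)) : Moved p G := by
  obtain ⟨S, hSe, -⟩ := exists_heis h4 h
  refine moved_of_sylow S fun s hs hso => ?_
  rw [hSe] at hs
  obtain ⟨i, j, k, rfl⟩ := Heis.exists_eq h hs
  have hp0 : (p : ℤ) ≠ 0 := by exact_mod_cast hp.out.ne_zero
  -- reduction of exponents
  have red : ∀ {g : G}, g ^ p = 1 → ∀ n : ℤ, ∃ m : ℕ, m < p ∧ (m : ℤ) = n % p ∧ g ^ n = g ^ m := by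
    intro g hg n
    have h1 := Int.emod_nonneg n hp0
    have h2 := Int.emod_lt_of_pos n (by exact_mod_cast hp.out.pos : (0 : ℤ) < p)
    obtain ⟨m, hm⟩ := Int.eq_ofNat_of_zero_le h1
    have hm' : n % p = m := hm
    refine ⟨m, by rw [hm'] at h2; exact_mod_cast h2, hm'.symm, ?_⟩
    conv_lhs => rw [← Int.emod_add_mul_ediv n p, zpow_add, zpow_mul, zpow_natCast, hg, one_zpow, mul_one, hm',
      zpow_natCast]
  by_cases hi : (p : ℤ) ∣ i
  · rw [zpow_dvd h.x_pow hi, one_mul] at hso ⊢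
    by_cases hj : (p : ℤ) ∣ j
    · -- central
      rw [zpow_dvd h.y_pow hj, one_mul] at hso ⊢
      obtain ⟨m, -, -, e⟩ := red h.z_pow k
      rw [e] at hso ⊢
      refine hz.pow h.z_pow fun hd => ?_
      obtain ⟨c, rfl⟩ := hd
      rw [pow_mul, h.z_pow, one_pow, orderOf_one] at hso
      exact hp.out.one_lt.ne hso
    · have hc := Heis.conj_coset h (i := 0) (j := j) (fun hh => hj hh.2) 0 k
      rw [zpow_zero, one_mul, zpow_zero, mul_one] at hc
      refine MovedAt.of_isConj hc ?_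
      obtain ⟨m, -, e1, e⟩ := red h.y_pow j
      rw [e]
      refine hy.pow h.y_pow fun hd => hj ?_
      rw [Int.dvd_iff_emod_eq_zero, ← e1]
      have h3 : m < p := by
        have := Int.emod_lt_of_pos j (by exact_mod_cast hp.out.pos : (0 : ℤ) < p)
        rw [← e1] at this
        exact_mod_cast this
      have h4 := Nat.eq_zero_of_dvd_of_lt hd h3
      rw [h4]; rfl
  · -- `s ~ (x y ^ t) ^ m`, `m = i`, `t i = j`
    obtain ⟨t, ht⟩ := exists_sol (p := p) hi (-j)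
    obtain ⟨m, hm, e1, -⟩ := red h.x_pow i
    obtain ⟨t', ht', e2, -⟩ := red h.x_pow t
    have hpm : ¬ p ∣ m := by
      intro hd
      apply hi
      have h4 := Nat.eq_zero_of_dvd_of_lt hd hm
      rw [Int.dvd_iff_emod_eq_zero, ← e1, h4]; rfl
    obtain ⟨w, hw⟩ := Heis.pow h 1 t' 0 m
    have h5 : (x ^ (1 : ℤ) * y ^ (t' : ℤ) * z ^ (0 : ℤ)) = x * y ^ t' := by
      rw [zpow_one, zpow_natCast, zpow_zero, mul_one]
    rw [h5] at hw
    have h6 : MovedAt ((x * y ^ t') ^ m) := by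
      refine (hxy t' ht').pow ?_ hpm
      have h7 := Heis.pow_p hp2 h 1 t' 0
      rwa [h5] at h7
    rw [hw] at h6
    have h7 : x ^ ((m : ℤ) * 1) * y ^ ((m : ℤ) * t') * z ^ w = x ^ i * y ^ j * z ^ w := by
      have e3 : x ^ ((m : ℤ) * 1) = x ^ i := by
        rw [mul_one]
        have : i = m + p * (i / p) := by
          have := Int.emod_add_mul_ediv i p
          rw [← e1] at this
          exact this.symm
        rw [this, zpow_add, zpow_mul, zpow_natCast, zpow_natCast, h.x_pow, one_zpow, mul_one]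
      have e4 : y ^ ((m : ℤ) * t') = y ^ j := by
        have h8 : (p : ℤ) ∣ m * t' - j := by
          have h9 : (m : ℤ) = i - p * (i / p) := by
            have := Int.emod_add_mul_ediv i p
            rw [← e1] at this
            linarith
          have h10 : (t' : ℤ) = t - p * (t / p) := by
            have := Int.emod_add_mul_ediv t p
            rw [← e2] at this
            linarith
          obtain ⟨c, hc⟩ := ht
          rw [h9, h10]
          refine ⟨c - (i / p) * (t - p * (t / p)) - i * (t / p), ?_⟩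
          linear_combination hc
        have h9 : (m : ℤ) * t' = j + (m * t' - j) := by ring
        rw [h9, zpow_add, zpow_dvd h.y_pow h8, mul_one]
      rw [e3, e4]
    rw [h7] at h6
    exact MovedAt.of_isConj (Heis.conj_coset h (fun hh => hi hh.1) w k) h6

/-- **A scalar action on `S / ⟨z⟩`.** -/
theorem moved_of_heis [Finite G] [hp : Fact p.Prime] (hp2 : p ≠ 2) (h4 : ¬ p ^ 4 ∣ Nat.card G) (h : Heis p x y z)
    (hz : MovedAt z) {c : G} {a : ℕ} {u v : ℤ} (ha : ¬ p ∣ a) (ha1 : ¬ (p : ℤ) ∣ a - 1)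
    (hcx : c * x * c⁻¹ = x ^ a * z ^ u) (hcy : c * y * c⁻¹ = y ^ a * z ^ v) : Moved p G := by
  have ha' : ¬ (p : ℤ) ∣ a := by exact_mod_cast ha
  -- `c (x ^ i y ^ j) c⁻¹ ∈ (x ^ i y ^ j) ^ a ⟨z⟩`
  have key : ∀ i j : ℤ, ¬ ((p : ℤ) ∣ i ∧ (p : ℤ) ∣ j) → MovedAt (x ^ i * y ^ j) := by
    intro i j hij
    have e0 : x ^ i * y ^ j = x ^ i * y ^ j * z ^ (0 : ℤ) := by rw [zpow_zero, mul_one]
    have h1 : ∃ w : ℤ, c * (x ^ i * y ^ j) * c⁻¹ = x ^ (a * i) * y ^ (a * j) * z ^ w := by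
      have h2 : c * (x ^ i * y ^ j) * c⁻¹ = (c * x * c⁻¹) ^ i * (c * y * c⁻¹) ^ j := by
        rw [conj_zpow, conj_zpow]; group
      have h3 : (c * x * c⁻¹) ^ i = x ^ (a * i) * z ^ (u * i) := by
        rw [hcx, (show Commute (x ^ a) (z ^ u) from
          ((show Commute x z from h.xz).pow_left a).zpow_right u).mul_zpow, ← zpow_natCast, ← zpow_mul, ← zpow_mul]
      have h4 : (c * y * c⁻¹) ^ j = y ^ (a * j) * z ^ (v * j) := by
        rw [hcy, (show Commute (y ^ a) (z ^ v) from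
          ((show Commute y z from h.yz).pow_left a).zpow_right v).mul_zpow, ← zpow_natCast, ← zpow_mul, ← zpow_mul]
      refine ⟨u * i + v * j, ?_⟩
      rw [h2, h3, h4]
      calc x ^ (a * i) * z ^ (u * i) * (y ^ (a * j) * z ^ (v * j))
          = x ^ (a * i) * (z ^ (u * i) * y ^ (a * j)) * z ^ (v * j) := by group
        _ = x ^ (a * i) * (y ^ (a * j) * z ^ (u * i)) * z ^ (v * j) := by rw [Heis.zy h]
        _ = _ := by group
    obtain ⟨w, hw⟩ := h1
    obtain ⟨w', hw'⟩ := Heis.pow h i j 0 a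
    rw [← e0] at hw'
    have hij' : ¬ ((p : ℤ) ∣ a * i ∧ (p : ℤ) ∣ a * j) := by
      rintro ⟨h5, h6⟩
      have hpi := Nat.prime_iff_prime_int.1 hp.out
      exact hij ⟨(hpi.dvd_or_dvd h5).resolve_left ha', (hpi.dvd_or_dvd h6).resolve_left ha'⟩
    obtain ⟨g, hg⟩ := isConj_iff.1 (Heis.conj_coset h hij' w w')
    refine ⟨g * c, a, ?_, ?_⟩
    · calc g * c * (x ^ i * y ^ j) * (g * c)⁻¹ = g * (c * (x ^ i * y ^ j) * c⁻¹) * g⁻¹ := by group
        _ = (x ^ i * y ^ j) ^ a := by rw [hw, hg, hw']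
    · intro h5
      have h6 : (x ^ i * y ^ j) ^ ((a : ℤ) - 1) = 1 := by
        rw [zpow_sub, zpow_one, zpow_natCast, h5, mul_inv_cancel]
      have h7 : (x ^ i * y ^ j) ^ p = 1 := by
        rw [e0]; exact Heis.pow_p hp2 h i j 0
      have h8 : x ^ i * y ^ j = 1 := by
        have hc : IsCoprime (p : ℤ) (a - 1) := (Nat.prime_iff_prime_int.1 hp.out).coprime_iff_not_dvd.2 ha1
        obtain ⟨b, d, hbd⟩ := hc
        have h9 : (x ^ i * y ^ j) ^ (b * p + d * ((a : ℤ) - 1)) = 1 := by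
          rw [zpow_add, mul_comm b, mul_comm d, zpow_mul, zpow_mul, zpow_natCast, h7, one_zpow, h6, one_zpow, one_mul]
        rwa [hbd, zpow_one] at h9
      -- then `x ^ i y ^ j` commutes with everything in `S`
      have hzz : ∀ t : ℤ, z ^ t = 1 → (p : ℤ) ∣ t := by
        intro t ht
        by_contra hnd
        have hc : IsCoprime (p : ℤ) t := (Nat.prime_iff_prime_int.1 hp.out).coprime_iff_not_dvd.2 hnd
        obtain ⟨b, d, hbd⟩ := hc
        apply h.z_ne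
        have h9 : z ^ (b * p + d * t) = 1 := by
          rw [zpow_add, mul_comm b, mul_comm d, zpow_mul, zpow_mul, zpow_natCast, h.z_pow, one_zpow, ht, one_zpow,
            one_mul]
        rwa [hbd, zpow_one] at h9
      have h10 := Heis.conj_y h 1 i j 0
      have h11 := Heis.conj_x' h 1 i j 0
      rw [← e0, h8] at h10 h11
      rw [mul_one, mul_inv_cancel, one_mul] at h10 h11
      apply hij
      constructor
      · have := hzz _ h10.symm
        simpa using this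
      · have := hzz _ h11.symm
        simpa using this
  refine moved_of_heis_gen hp2 h4 h hz ?_ fun j _ => ?_
  · have h1 := key 0 1 (fun hh => (Nat.prime_iff_prime_int.1 hp.out).not_dvd_one hh.2)
    rwa [zpow_zero, one_mul, zpow_one] at h1
  · have h1 := key 1 j (fun hh => (Nat.prime_iff_prime_int.1 hp.out).not_dvd_one hh.1)
    rwa [zpow_one, zpow_natCast] at h1

/-- the action on the centre -/
theorem Heis.conj_z (h : Heis p x y z) {c : G} {a : ℕ} {u v : ℤ} (hcx : c * x * c⁻¹ = x ^ a * z ^ u)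
    (hcy : c * y * c⁻¹ = y ^ a * z ^ v) : c * z * c⁻¹ = z ^ (a * a) := by
  have h1 : (c * y * c⁻¹) * (c * x * c⁻¹) = (c * x * c⁻¹) * (c * y * c⁻¹) * (c * z * c⁻¹) := by
    have e := congrArg (fun t => c * t * c⁻¹) h.yx
    calc (c * y * c⁻¹) * (c * x * c⁻¹) = c * (y * x) * c⁻¹ := by group
      _ = c * (x * y * z) * c⁻¹ := e
      _ = _ := by group
  have h2 := Heis.mul h 0 a v a 0 u
  have h3 := Heis.mul h a 0 u 0 a v
  simp only [zpow_zero, zpow_natCast, one_mul, mul_one] at h2 h3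
  rw [hcx, hcy, h2, h3] at h1
  have h4 : z ^ (v + u + a * a : ℤ) = z ^ (u + v + 0 * 0 : ℤ) * (c * z * c⁻¹) := by
    have e1 : (0 : ℤ) + a = a := by ring
    have e2 : (a : ℤ) + 0 = a := by ring
    rw [e1, e2] at h1
    have := congrArg (fun t => (x ^ (a : ℤ) * y ^ (a : ℤ))⁻¹ * t) h1
    beta_reduce at this
    rw [mul_assoc (x ^ (a : ℤ) * y ^ (a : ℤ)), inv_mul_cancel_left, inv_mul_cancel_left] at this
    exact this
  have h5 : c * z * c⁻¹ = (z ^ (u + v + 0 * 0 : ℤ))⁻¹ * z ^ (v + u + a * a : ℤ) := by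
    rw [h4, inv_mul_cancel_left]
  rw [h5, ← zpow_neg, ← zpow_add]
  have e : -(u + v + 0 * 0) + (v + u + a * a : ℤ) = ((a * a : ℕ) : ℤ) := by push_cast; ring
  rw [e, zpow_natCast]

/-- **A scalar action on `S / ⟨z⟩` by `a`, `a² ≢ 1`.** -/
theorem moved_of_heis' [Finite G] [hp : Fact p.Prime] (hp2 : p ≠ 2) (h4 : ¬ p ^ 4 ∣ Nat.card G) (h : Heis p x y z)
    {c : G} {a : ℕ} {u v : ℤ} (ha : ¬ p ∣ a) (ha2 : ¬ (p : ℤ) ∣ a * a - 1)
    (hcx : c * x * c⁻¹ = x ^ a * z ^ u) (hcy : c * y * c⁻¹ = y ^ a * z ^ v) : Moved p G := by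
  refine moved_of_heis hp2 h4 h ⟨c, a * a, Heis.conj_z h hcx hcy, ?_⟩ ha ?_ hcx hcy
  · intro h5
    apply ha2
    by_contra hnd
    apply h.z_ne
    have hc : IsCoprime (p : ℤ) (a * a - 1) := (Nat.prime_iff_prime_int.1 hp.out).coprime_iff_not_dvd.2 hnd
    obtain ⟨b, d, hbd⟩ := hc
    have h6 : z ^ ((a : ℤ) * a - 1) = 1 := by
      have e : ((a : ℤ) * a - 1) = ((a * a : ℕ) : ℤ) - 1 := by push_cast; ring
      rw [e, zpow_sub, zpow_one, zpow_natCast, h5, mul_inv_cancel]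
    have h9 : z ^ (b * p + d * ((a : ℤ) * a - 1)) = 1 := by
      rw [zpow_add, mul_comm b, mul_comm d, zpow_mul, zpow_mul, zpow_natCast, h.z_pow, one_zpow, h6, one_zpow, one_mul]
    rwa [hbd, zpow_one] at h9
  · intro hd
    apply ha2
    have e : (a : ℤ) * a - 1 = (a - 1) * (a + 1) := by ring
    rw [e]
    exact Dvd.dvd.mul_right hd _

end heis

end Cfsg.Agent.H497.Stein
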