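import Cfsg.Agent.H520.CcpCfg
import Cfsg.Agent.BpSpor.RowAll

/-!
# Rows of S4114 from power conjugacy: the engine (helper497)

* `Moved p G` : every element of order `p` of `G` is conjugate to a different power of itself;
* `Moved.congr`, `moved_of_real`, `moved_of_one`, `Moved.of_hom` (subgroup of index prime to `p`), `moved_of_sylow`;
* `moved_of_not_sq` : `G` simple nonabelian, `p² ∤ |G|` (Burnside transfer);
* `not_dvd_of_moved` : `Cfg α`, automorphisms of order `p` inner, `Moved p G` ⇒ `p ∤ |α|`;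
* `row_of_moved`, `row_of_dat` : the rows.
-/

set_option autoImplicit false

namespace Cfsg.Agent.H497.Stein

open Subgroup Cfsg Cfsg.Agent.H520
open Cfsg.Agent.CpAut (AutInner)
open Cfsg.Agent.BpSpor.Inn (OddInn)

universe u v

variable {G : Type u} [Group G] {H : Type v} [Group H]

/-- `y` is conjugate to a different power of itself -/
def MovedAt (y : G) : Prop := ∃ (g : G) (j : ℕ), g * y * g⁻¹ = y ^ j ∧ y ^ j ≠ y

/-- every element of order `p` is conjugate to a different power of itself -/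
def Moved (p : ℕ) (G : Type*) [Group G] : Prop := ∀ y : G, orderOf y = p → MovedAt y

theorem MovedAt.map {y : H} (h : MovedAt y) (f : H →* G) (hf : Function.Injective f) : MovedAt (f y) := by
  obtain ⟨g, j, h1, h2⟩ := h
  refine ⟨f g, j, ?_, ?_⟩
  · rw [← map_inv, ← map_mul, ← map_mul, h1, map_pow]
  · intro h3
    rw [← map_pow] at h3
    exact h2 (hf h3)

theorem MovedAt.conj {y : G} (h : MovedAt y) (k : G) : MovedAt (k * y * k⁻¹) :=
  h.map (MulAut.conj k).toMonoidHom (MulAut.conj k).injective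

theorem MovedAt.of_conj {y k : G} (h : MovedAt (k * y * k⁻¹)) : MovedAt y := by
  have h1 := h.conj k⁻¹
  have h2 : k⁻¹ * (k * y * k⁻¹) * k⁻¹⁻¹ = y := by group
  rwa [h2] at h1

theorem MovedAt.of_isConj {x y : G} (hc : IsConj x y) (h : MovedAt x) : MovedAt y := by
  obtain ⟨k, rfl⟩ := isConj_iff.1 hc
  exact h.conj k

/-- a different power which is conjugate, from integer exponents -/
theorem movedAt_of_zpow [Finite G] {y g : G} {j : ℤ} (h : g * y * g⁻¹ = y ^ j) (hne : y ^ j ≠ y) : MovedAt y := by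
  obtain ⟨n, hn⟩ := (isOfFinOrder_of_finite y).mem_powers_iff_mem_zpowers.2 (⟨j, rfl⟩ : y ^ j ∈ zpowers y)
  have hn' : y ^ n = y ^ j := hn
  exact ⟨g, n, by rw [hn']; exact h, by rw [hn']; exact hne⟩

/-- real elements of order at least three -/
theorem movedAt_of_real [Finite G] {y : G} (h : IsConj y y⁻¹) (h2 : y ^ 2 ≠ 1) : MovedAt y := by
  obtain ⟨g, hg⟩ := isConj_iff.1 h
  refine movedAt_of_zpow (g := g) (j := -1) (by rw [zpow_neg_one]; exact hg) ?_
  rw [zpow_neg_one]
  intro h3
  apply h2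
  rw [pow_two]
  nth_rw 1 [← h3]
  rw [inv_mul_cancel]

theorem sq_ne_one {p : ℕ} (hp : p.Prime) (hp2 : p ≠ 2) {y : G} (hy : orderOf y = p) : y ^ 2 ≠ 1 := by
  intro h
  have h1 := orderOf_dvd_of_pow_eq_one h
  rw [hy] at h1
  exact hp2 ((Nat.prime_dvd_prime_iff_eq hp Nat.prime_two).1 h1)

theorem Moved.congr {p : ℕ} (e : G ≃* H) (h : Moved p H) : Moved p G := by
  intro y hy
  have h1 := h (e y) (by rw [MulEquiv.orderOf_eq, hy])
  have h2 := h1.map e.symm.toMonoidHom e.symm.injective
  have h3 : e.symm.toMonoidHom (e y) = y := e.symm_apply_apply y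
  rwa [h3] at h2

theorem moved_of_real [Finite G] {p : ℕ} (hp : p.Prime) (hp2 : p ≠ 2) (h : ∀ y : G, orderOf y = p → IsConj y y⁻¹) :
    Moved p G := fun y hy => movedAt_of_real (h y hy) (sq_ne_one hp hp2 hy)

/-- one class of elements of order `p` -/
theorem moved_of_one [Finite G] {p : ℕ} (hp : p.Prime) (hp2 : p ≠ 2)
    (h : ∀ x y : G, orderOf x = p → orderOf y = p → IsConj x y) : Moved p G :=
  moved_of_real hp hp2 fun y hy => h y y⁻¹ hy (by rw [orderOf_inv, hy])

/-- it is enough to consider the elements of a Sylow subgroup -/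
theorem moved_of_sylow [Finite G] {p : ℕ} [hp : Fact p.Prime] (P : Sylow p G)
    (h : ∀ y ∈ (P : Subgroup G), orderOf y = p → MovedAt y) : Moved p G := by
  intro y hy
  have h1 : IsPGroup p (zpowers y) := IsPGroup.of_card (n := 1) (by rw [Nat.card_zpowers, hy, pow_one])
  obtain ⟨Q, hQ⟩ := h1.exists_le_sylow
  obtain ⟨g, hg⟩ := MulAction.exists_smul_eq G Q P
  have h2 : g * y * g⁻¹ ∈ (P : Subgroup G) := by
    rw [← hg]
    exact ⟨y, hQ (mem_zpowers y), rfl⟩
  refine MovedAt.of_conj (k := g) (h _ h2 ?_)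
  have h3 : g * y * g⁻¹ = MulAut.conj g y := rfl
  rw [h3, MulEquiv.orderOf_eq, hy]

/-- a subgroup containing a Sylow `p`-subgroup -/
theorem Moved.of_hom [Finite G] {p : ℕ} [hp : Fact p.Prime] (f : H →* G) (hf : Function.Injective f)
    (hd : ∀ k : ℕ, p ^ k ∣ Nat.card G → p ^ k ∣ Nat.card H) (h : Moved p H) : Moved p G := by
  have hfin : Finite H := Finite.of_injective f hf
  obtain ⟨P⟩ : Nonempty (Sylow p H) := inferInstance
  have h1 : Nat.card ↥((P : Subgroup H).map f) = Nat.card ↥(P : Subgroup H) := card_map_of_injective hf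
  have h2 : (Nat.card G).factorization p = (Nat.card H).factorization p := by
    apply le_antisymm
    · exact (hp.out.pow_dvd_iff_le_factorization Nat.card_pos.ne').1 (hd _ (Nat.ordProj_dvd _ _))
    · exact (Nat.factorization_le_iff_dvd Nat.card_pos.ne' Nat.card_pos.ne').2 (card_dvd_of_injective f hf) p
  refine moved_of_sylow (Sylow.ofCard ((P : Subgroup H).map f) (by rw [h1, P.card_eq_multiplicity, h2])) ?_
  rintro _ ⟨x, hx, rfl⟩ hy
  rw [orderOf_injective f hf] at hy
  exact (h x hy).map f hf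

/-- **Burnside transfer**: `p² ∤ |G|`. -/
theorem moved_of_not_sq [Finite G] [IsSimpleGroup G] (hna : ¬ ∀ a b : G, a * b = b * a) {p : ℕ} (hp : p.Prime)
    (h : ¬ p ^ 2 ∣ Nat.card G) : Moved p G := by
  have hpf : Fact p.Prime := ⟨hp⟩
  intro y hy
  by_contra hm
  have h1 : IsPGroup p (zpowers y) := IsPGroup.of_card (n := 1) (by rw [Nat.card_zpowers, hy, pow_one])
  obtain ⟨P, hP⟩ := h1.exists_le_sylow
  have h2 : (P : Subgroup G) = zpowers y := by
    refine (eq_of_le_of_card_ge hP ?_).symm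
    rw [Nat.card_zpowers, hy]
    obtain ⟨n, hn⟩ := IsPGroup.iff_card.1 P.2
    rw [hn]
    have hn1 : n ≤ 1 := by
      by_contra hlt
      apply h
      refine (pow_dvd_pow p (by omega : 2 ≤ n)).trans ?_
      rw [← hn]
      exact card_subgroup_dvd_card _
    calc p ^ n ≤ p ^ 1 := Nat.pow_le_pow_right hp.pos hn1
      _ = p := pow_one p
  have hN : normalizer ((P : Subgroup G) : Set G) ≤ centralizer ((P : Subgroup G) : Set G) := by
    intro n hn
    have h3 : n * y * n⁻¹ ∈ zpowers y := by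
      rw [← h2]
      exact (mem_normalizer_iff.1 hn y).1 (by rw [h2]; exact mem_zpowers y)
    obtain ⟨j, hj⟩ := h3
    have hj' : n * y * n⁻¹ = y ^ j := hj.symm
    have h4 : y ^ j = y := by
      by_contra hne
      exact hm (movedAt_of_zpow hj' hne)
    rw [h4, mul_inv_eq_iff_eq_mul] at hj'
    rw [h2, mem_centralizer_iff]
    rintro _ ⟨i, rfl⟩
    exact ((show Commute n y from hj').zpow_right i).symm.eq
  have hk := MonoidHom.not_dvd_card_ker_transferSylow P hN
  rcases (inferInstance : (MonoidHom.transferSylow P hN).ker.Normal).eq_bot_or_eq_top with h3 | h3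
  · apply hna
    have hinj := (MonoidHom.ker_eq_bot_iff _).1 h3
    intro a b
    apply hinj
    rw [map_mul, map_mul]
    have hc : ∀ u v : ↥(P : Subgroup G), u * v = v * u := by
      rintro ⟨u, hu⟩ ⟨v, hv⟩
      apply Subtype.ext
      rw [h2] at hu hv
      obtain ⟨i, rfl⟩ := hu
      obtain ⟨j, rfl⟩ := hv
      exact ((Commute.refl y).zpow_left i |>.zpow_right j).eq
    exact hc _ _
  · rw [h3, card_top] at hk
    exact hk (by rw [← hy]; exact orderOf_dvd_natCard y)

section cfg

variable {α : MulAut G}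

/-- **The engine**: `p ∤ |α|`. -/
theorem not_dvd_of_moved [Finite G] (h : Cfg α) {p : ℕ} (hp : p.Prime) (hi : AutInner p G) (hm : Moved p G) :
    ¬ p ∣ orderOf α := by
  intro hd
  obtain ⟨x, hx, hxo⟩ := exists_prime_order hp hd
  obtain ⟨y, rfl⟩ := hi x hxo
  have hinj : Function.Injective (MulAut.conj : G →* MulAut G) := fun a b hab => conj_inj h.center_bot hab
  have hy : orderOf y = p := by rw [← hxo]; exact (orderOf_injective _ hinj y).symm
  obtain ⟨g, j, h1, h2⟩ := hm y hy
  exact h2 (h.eq_pow hx h1)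

/-- an inner automorphism in `⟨α⟩` is not a moved element -/
theorem not_movedAt [Finite G] (h : Cfg α) {y : G} (hy : MulAut.conj y ∈ zpowers α) : ¬ MovedAt y := by
  rintro ⟨g, j, h1, h2⟩
  exact h2 (h.eq_pow hy h1)

end cfg

/-- **Rows from power conjugacy.** -/
theorem row_of_moved [Finite G] (h2 : 2 ∣ Nat.card G) (hi : OddInn G)
    (hm : ∀ p : ℕ, p.Prime → p ≠ 2 → p ∣ Nat.card G → Moved p G) : Row G := by
  intro α h
  obtain ⟨p, hp, hp2, hd⟩ := h.exists_prime_ne Nat.prime_two h2
  by_cases hpG : p ∣ Nat.card G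
  · exact not_dvd_of_moved h hp (hi p hp hp2) (hm p hp hp2 hpG) hd
  · refine not_dvd_of_moved h hp (hi p hp hp2) (fun y hy => absurd ?_ hpG) hd
    rw [← hy]
    exact orderOf_dvd_natCard y

/-- a group of non-prime order divisible by four with simple group is not commutative -/
theorem not_comm_of_card [Finite G] (hs : IsSimpleGroup G) (h4 : 4 ∣ Nat.card G) : ¬ ∀ a b : G, a * b = b * a := by
  intro hm
  let _ : CommGroup G := { (inferInstance : Group G) with mul_comm := hm }
  have h1 : (Nat.card G).Prime := IsSimpleGroup.prime_card (α := G)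
  rcases (Nat.dvd_prime h1).1 ((by norm_num : 2 ∣ 4).trans h4) with h2 | h2
  · omega
  · rw [← h2] at h4
    omega

/-- **The row of a group of order `N`** from the primes whose square divides `N`; `l` is the factorisation of `N`. -/
theorem row_of_dat {N : ℕ} (D : BpSpor.Dat G N) {l : List (ℕ × ℕ)} (hv : OrdDiv.valid l N = true) (h4 : 4 ∣ N)
    (hrows : ∀ x ∈ l, 2 ≤ x.2 → x.1 ≠ 2 → Moved x.1 G) : Row G := by
  have hfin : Finite G := Nat.finite_of_card_ne_zero (by
    rw [D.card]
    exact (OrdDiv.valid_pos hv).ne')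
  have hs := D.simple
  have hna := not_comm_of_card D.simple (by rw [D.card]; exact h4)
  refine row_of_moved ?_ D.inn fun p hp hp2 _ => ?_
  · rw [D.card]
    exact (by norm_num : 2 ∣ 4).trans h4
  · by_cases h : p ^ 2 ∣ N
    · obtain ⟨k, hk, h2k⟩ := OrdDiv.exists_pair hv hp (by norm_num : 1 ≤ 2) h
      exact hrows (p, k) hk h2k hp2
    · exact moved_of_not_sq hna hp (by rw [D.card]; exact h)

end Cfsg.Agent.H497.Stein
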