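import Cfsg.Agent.H497.Stein.Eng
import Cfsg.Agent.UGT.End.MEleven
import Cfsg.Agent.Cit.Eleven
import Cfsg.Agent.OddHalf.Table.OutMTwelve
import Cfsg.Agent.Schreier.MTwelve
import Cfsg.Agent.MTwelveType.SylowModel
import Cfsg.Agent.J4Type.Aut22
import Cfsg.Agent.SporadicA.MathieuRecog
import Cfsg.Agent.UGT.MTwentyThree.Aut
import Cfsg.Agent.Omega.TwoF.MathieuRK
import Cfsg.Agent.KFacts.M24Two.Out
import Cfsg.Agent.S0364
import Cfsg.Agent.S0365
import Cfsg.Agent.OddHalf.D4.Spor.J1Out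
import Cfsg.Agent.SporadicB.J1.Main
import Cfsg.Agent.SporadicA.M11Facts2
import Cfsg.Agent.H337.M22Three
import Cfsg.Agent.H865.ThreeClasses
import Cfsg.Agent.CpAutCo3.MTw

/-!
# S4114: the rows of the Mathieu groups and of `J₁` (helper497)
-/

set_option autoImplicit false

namespace Cfsg.Agent.H497.Stein

open Subgroup Cfsg Cfsg.Agent.H520
open Cfsg.Agent.BpSpor (Dat)
open Cfsg.Agent.BpSpor.Inn (OddInn)

universe u

/-! ### two classes separated by the number of fixed points -/

/-- a conjugation and inversion invariant function separating the two classes -/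
theorem isConj_inv_of_two {K : Type*} [Group K] (f : K → ℕ) (hc : ∀ g x, f (g * x * g⁻¹) = f x)
    (hi : ∀ x, f x⁻¹ = f x) {A B b : K} (hAB : f A ≠ f B) (h : IsConj b A ∨ IsConj b B)
    (h' : IsConj b⁻¹ A ∨ IsConj b⁻¹ B) : IsConj b b⁻¹ := by
  have hf : ∀ {x y : K}, IsConj x y → f x = f y := by
    intro x y hxy
    obtain ⟨g, rfl⟩ := isConj_iff.1 hxy
    exact (hc g x).symm
  rcases h with h | h <;> rcases h' with h' | h'
  · exact h.trans h'.symm
  · exact absurd (by rw [← hf h, ← hf h', hi]) hAB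
  · exact absurd (by rw [← hf h, ← hf h', hi]) hAB
  · exact h.trans h'.symm

/-- the number of fixed points -/
def nfx (g : Equiv.Perm GolayPt) : ℕ := (Finset.univ.filter fun x => g x = x).card

theorem nfx_inv (g : Equiv.Perm GolayPt) : nfx g⁻¹ = nfx g := by
  unfold nfx
  congr 1
  apply Finset.filter_congr
  intro x _
  rw [Equiv.Perm.inv_eq_iff_eq]
  exact eq_comm

theorem nfx_conj (g x : Equiv.Perm GolayPt) : nfx (g * x * g⁻¹) = nfx x := by
  unfold nfx
  refine Finset.card_bij (fun a _ => g⁻¹ a) ?_ ?_ ?_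
  · intro a ha
    rw [Finset.mem_filter] at ha ⊢
    refine ⟨Finset.mem_univ _, ?_⟩
    have h1 : g (x (g⁻¹ a)) = a := ha.2
    rw [Equiv.Perm.eq_inv_iff_eq]
    exact h1
  · intro a _ b _ h
    exact g⁻¹.injective h
  · intro b hb
    rw [Finset.mem_filter] at hb
    have hg : g⁻¹ (g b) = b := Equiv.symm_apply_apply g b
    refine ⟨g b, ?_, hg⟩
    rw [Finset.mem_filter]
    refine ⟨Finset.mem_univ _, ?_⟩
    show g (x (g⁻¹ (g b))) = g b
    rw [hg, hb.2]

/-! ### `M₁₁` -/

theorem dat_m11 {K : Type u} [Group K] (h : Spor.IsoM11 K) : Dat K 7920 where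
  simple := (Cfsg.Agent.Cit.Eleven.isM11 h).1
  card := (Cfsg.Agent.Cit.Eleven.isM11 h).2
  inn := by
    have : Finite K := by
      obtain ⟨e⟩ := h
      exact Finite.of_equiv _ e.symm.toEquiv
    exact BpSpor.Inn.of_inner (Cfsg.Agent.UGT.End.MEleven.inner h)

theorem row_M11 {G : Type u} [Group G] [Finite G] (h : Spor.IsoM11 G) : Row G := by
  refine row_of_dat (dat_m11 h) (l := [(2, 4), (3, 2), (5, 1), (11, 1)]) (by decide +kernel) (by norm_num)
    (fun x hx hx2 hx3 => ?_)
  simp only [List.mem_cons, List.not_mem_nil, or_false] at hx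
  rcases hx with rfl | rfl | rfl | rfl
  · exact absurd rfl hx3
  · exact moved_of_one Nat.prime_three (by norm_num) fun x y hx hy =>
      Cfsg.Agent.SporadicA.M11Facts2.isConj_three (Cfsg.Agent.Cit.Eleven.isM11 h) hx hy
  · exact absurd hx2 (by norm_num)
  · exact absurd hx2 (by norm_num)

/-! ### `M₁₂` -/

theorem of_mem_or_mem {K : Type*} [Group K] {a : MulAut K} (ha : a * a = 1)
    (h : ∀ φ : MulAut K, φ ∈ (MulAut.conj : K →* MulAut K).range ∨ a * φ ∈ (MulAut.conj : K →* MulAut K).range) :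
    OddInn K := by
  apply BpSpor.Inn.of_pow
  intro α
  rcases h α with h1 | ⟨x, hx⟩
  · exact pow_mem h1 2
  · have h2 : α = a * MulAut.conj x := by rw [hx, ← mul_assoc, ha, one_mul]
    refine ⟨a x * x, ?_⟩
    rw [h2, pow_two]
    ext u
    have h3 : ∀ v : K, a (a v) = v := fun v => by
      rw [← MulAut.mul_apply, ha, MulAut.one_apply]
    simp only [MulAut.mul_apply, MulAut.conj_apply, map_mul, map_inv, h3, mul_inv_rev, mul_assoc]

theorem dat_m12 {K : Type u} [Group K] (h : Spor.IsoM12 K) : Dat K 95040 where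
  simple := by
    obtain ⟨e⟩ := h
    exact (MulEquiv.isSimpleGroup_congr e).2 Cfsg.Agent.Schreier.MTwelve.isSimpleGroup
  card := by
    obtain ⟨e⟩ := h
    rw [Nat.card_congr e.toEquiv, Cfsg.Agent.MTwelveType.SylowModel.card_M12]
  inn := by
    obtain ⟨e⟩ := h
    exact OddInn.congr e (of_mem_or_mem Cfsg.Agent.OddHalf.Table.OutMTwelve.al_mul_al
      Cfsg.Agent.OddHalf.Table.OutMTwelve.mem_or_mem)

section twelve

open Cfsg.Agent.CpAutCo3.MTw Cfsg.Agent.CoThreeStd.MTwelve

theorem nfx_wd (w : List ℕ) : nfx (wd w : Equiv.Perm GolayPt) = (Finset.univ.filter fun p : GolayPt =>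
    act w (SporadicStructure.M11InvPerms.enc p) = SporadicStructure.M11InvPerms.enc p).card := by
  have h : ∀ p : GolayPt, (wd w : Equiv.Perm GolayPt) p = p ↔
      act w (SporadicStructure.M11InvPerms.enc p) = SporadicStructure.M11InvPerms.enc p := by
    intro p
    have h1 := (act_spec w _ (enc_lt p)).1
    rw [dec_enc] at h1
    rw [← h1]
    constructor
    · intro h2
      exact congrArg _ h2
    · intro h2
      have h3 := congrArg SporadicStructure.M11InvPerms.dec h2
      rwa [dec_enc, dec_enc] at h3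
  unfold nfx
  rw [Finset.filter_congr fun p _ => h p]

theorem nfx_A0 : nfx (A0 : Equiv.Perm GolayPt) = 6 := by
  rw [A0, nfx_wd]
  decide +kernel

theorem nfx_B0 : nfx (B0 : Equiv.Perm GolayPt) = 0 := by
  rw [B0, nfx_wd]
  decide +kernel

theorem real_m12 {x : Spor.M12} (hx : orderOf x = 3) : IsConj x x⁻¹ := by
  have key : ∀ y : Spor.M12, orderOf y = 3 → IsConj y A0 ∨ IsConj y B0 := by
    intro y hy
    have h1 : y ≠ 1 := by
      rintro rfl
      rw [orderOf_one] at hy
      omega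
    rcases classes h1 (by rw [← hy]; exact pow_orderOf_eq_one y) with ⟨m, hm⟩ | ⟨m, hm⟩
    · left
      exact isConj_iff.2 ⟨m, by rw [← hm]; group⟩
    · right
      exact isConj_iff.2 ⟨m, by rw [← hm]; group⟩
  refine isConj_inv_of_two (fun g : Spor.M12 => nfx (g : Equiv.Perm GolayPt)) (fun g x => nfx_conj _ _)
    (fun x => nfx_inv _) (A := A0) (B := B0) ?_ (key x hx) (key x⁻¹ (by rw [orderOf_inv, hx]))
  show nfx (A0 : Equiv.Perm GolayPt) ≠ nfx (B0 : Equiv.Perm GolayPt)
  rw [nfx_A0, nfx_B0]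
  norm_num

end twelve

theorem row_M12 {G : Type u} [Group G] [Finite G] (h : Spor.IsoM12 G) : Row G := by
  refine row_of_dat (dat_m12 h) (l := [(2, 6), (3, 3), (5, 1), (11, 1)]) (by decide +kernel) (by norm_num)
    (fun x hx hx2 hx3 => ?_)
  simp only [List.mem_cons, List.not_mem_nil, or_false] at hx
  rcases hx with rfl | rfl | rfl | rfl
  · exact absurd rfl hx3
  · obtain ⟨e⟩ := h
    have : Finite Spor.M12 := Finite.of_equiv G e.toEquiv
    exact (moved_of_real Nat.prime_three (by norm_num) fun y hy => real_m12 hy).congr e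
  · exact absurd hx2 (by norm_num)
  · exact absurd hx2 (by norm_num)

/-! ### `M₂₂` -/

section twentytwo

open Cfsg.Agent.J4Type.Aut22 (D22 mem_D22_iff M22_le_D22 exists_conj eq_one_of_centralizes)
open Cfsg.Agent.SporadicA.MathieuRecog (mem_M22_iff simple_M22)

theorem sq_mem_M22 {d : Equiv.Perm GolayPt} (hd : d ∈ D22) : d * d ∈ Spor.M22 := by
  obtain ⟨hM, h⟩ := (mem_D22_iff d).1 hd
  refine (mem_M22_iff _).2 ⟨M24.mul_mem hM hM, ?_⟩
  rcases h with h | h
  · exact ⟨by rw [Equiv.Perm.mul_apply, h.1, h.1], by rw [Equiv.Perm.mul_apply, h.2, h.2]⟩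
  · exact ⟨by rw [Equiv.Perm.mul_apply, h.1, h.2], by rw [Equiv.Perm.mul_apply, h.2, h.1]⟩

theorem dat_m22 {K : Type u} [Group K] (h : Spor.IsoM22 K) : Dat K 443520 where
  simple := by
    obtain ⟨e⟩ := h
    exact (MulEquiv.isSimpleGroup_congr e).2 Cfsg.Agent.SporadicA.MathieuRecog.simple_M22
  card := by
    obtain ⟨e⟩ := h
    rw [Nat.card_congr e.toEquiv, Cfsg.Agent.SporadicA.MathieuRecog.card_M22]
  inn := by
    obtain ⟨e⟩ := h
    refine OddInn.congr e (BpSpor.Inn.of_pow fun φ => ?_)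
    obtain ⟨d, hd, hφ⟩ := exists_conj φ
    refine ⟨⟨d * d, sq_mem_M22 hd⟩, ?_⟩
    ext1 x
    apply Subtype.ext
    show d * d * (x : Equiv.Perm GolayPt) * (d * d)⁻¹ = (((φ ^ 2) x : ↥Spor.M22) : Equiv.Perm GolayPt)
    rw [pow_two, MulAut.mul_apply, hφ, hφ]
    group

end twentytwo

instance finite_m22 : Finite Spor.M22 := Nat.finite_of_card_ne_zero (by
  rw [Cfsg.Agent.SporadicA.MathieuRecog.card_M22]; norm_num)

theorem moved_m22 : Moved 3 Spor.M22 :=
  moved_of_one Nat.prime_three (by norm_num) fun _ _ hx hy => Cfsg.Agent.H337.M22Three.isConj_three hx hy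

theorem row_M22 {G : Type u} [Group G] [Finite G] (h : Spor.IsoM22 G) : Row G := by
  refine row_of_dat (dat_m22 h) (l := [(2, 7), (3, 2), (5, 1), (7, 1), (11, 1)]) (by decide +kernel) (by norm_num)
    (fun x hx hx2 hx3 => ?_)
  simp only [List.mem_cons, List.not_mem_nil, or_false] at hx
  rcases hx with rfl | rfl | rfl | rfl | rfl
  · exact absurd rfl hx3
  · obtain ⟨e⟩ := h
    exact moved_m22.congr e
  · exact absurd hx2 (by norm_num)
  · exact absurd hx2 (by norm_num)
  · exact absurd hx2 (by norm_num)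

/-! ### `M₂₃` -/

theorem dat_m23 {K : Type u} [Group K] (h : Spor.IsoM23 K) : Dat K 10200960 where
  simple := by
    obtain ⟨e⟩ := h
    exact (MulEquiv.isSimpleGroup_congr e).2 Cfsg.Agent.Omega.TwoF.simple_M23
  card := by
    obtain ⟨e⟩ := h
    rw [Nat.card_congr e.toEquiv, Cfsg.Agent.SporadicA.MathieuRecog.card_M23]
  inn := by
    obtain ⟨e⟩ := h
    exact OddInn.congr e (BpSpor.Inn.of_inner fun α => Cfsg.Agent.UGT.MTwentyThree.Aut.exists_conj α)

/-- the power of `p` dividing `N = p ^ k * m`, `p ∤ m` -/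
theorem pow_dvd_of {p k m : ℕ} (hp : p.Prime) (hm : ¬ p ∣ m) {j : ℕ} (h : p ^ j ∣ p ^ k * m) : p ^ j ∣ p ^ k :=
  (Nat.Coprime.pow_left j ((Nat.Prime.coprime_iff_not_dvd hp).2 hm)).dvd_of_dvd_mul_right h

theorem row_M23 {G : Type u} [Group G] [Finite G] (h : Spor.IsoM23 G) : Row G := by
  refine row_of_dat (dat_m23 h) (l := [(2, 7), (3, 2), (5, 1), (7, 1), (11, 1), (23, 1)]) (by decide +kernel)
    (by norm_num) (fun x hx hx2 hx3 => ?_)
  simp only [List.mem_cons, List.not_mem_nil, or_false] at hx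
  rcases hx with rfl | rfl | rfl | rfl | rfl | rfl
  · exact absurd rfl hx3
  · obtain ⟨e⟩ := h
    have : Finite Spor.M23 := Finite.of_equiv G e.toEquiv
    have : Fact (Nat.Prime 3) := ⟨Nat.prime_three⟩
    have hle : Spor.M22 ≤ Spor.M23 := inf_le_left
    refine (Moved.of_hom (inclusion hle) (inclusion_injective hle) ?_ moved_m22).congr e
    intro k hk
    rw [Cfsg.Agent.SporadicA.MathieuRecog.card_M23, show (10200960 : ℕ) = 3 ^ 2 * 1133440 by norm_num] at hk
    rw [Cfsg.Agent.SporadicA.MathieuRecog.card_M22]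
    exact (pow_dvd_of Nat.prime_three (by norm_num) hk).trans (by norm_num)
  · exact absurd hx2 (by norm_num)
  · exact absurd hx2 (by norm_num)
  · exact absurd hx2 (by norm_num)
  · exact absurd hx2 (by norm_num)

/-! ### `M₂₄` -/

theorem dat_m24 {K : Type u} [Group K] (h : Spor.IsoM24 K) : Dat K 244823040 where
  simple := by
    obtain ⟨e⟩ := h
    exact (MulEquiv.isSimpleGroup_congr e).2 Cfsg.Agent.S0365.result
  card := by
    obtain ⟨e⟩ := h
    rw [Nat.card_congr e.toEquiv, Cfsg.Agent.S0364.result]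
  inn := by
    obtain ⟨e⟩ := h
    exact OddInn.congr e (BpSpor.Inn.of_inner fun α => Cfsg.Agent.KFacts.M24Two.Out.exists_conj α)

section twentyfour

open Cfsg.Agent.SporadicStructure.M24El Cfsg.Agent.H865.Three Cfsg.Agent.H865.ThreeClasses
open Cfsg.Agent.SporadicA.GolayBase Cfsg.Agent.SporadicA.GolayPerm

theorem nfx_elA : nfx (el A : Equiv.Perm GolayPt) = 6 := by
  unfold nfx
  rw [Finset.filter_congr fun p _ => fx_el okA p]
  decide +kernel

theorem nfx_elB : nfx (el B : Equiv.Perm GolayPt) = 0 := by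
  unfold nfx
  rw [Finset.filter_congr fun p _ => fx_el okB p]
  decide +kernel

theorem real_m24 {x : M24} (hx : orderOf x = 3) : IsConj x x⁻¹ := by
  have key : ∀ y : M24, orderOf y = 3 → IsConj y (el A) ∨ IsConj y (el B) := by
    intro y hy
    obtain ⟨c, hc | hc⟩ := conj_of_orderOf hy
    · exact Or.inl (isConj_iff.2 ⟨c, hc⟩)
    · exact Or.inr (isConj_iff.2 ⟨c, hc⟩)
  refine isConj_inv_of_two (fun g : M24 => nfx (g : Equiv.Perm GolayPt)) (fun g x => nfx_conj _ _)
    (fun x => nfx_inv _) (A := el A) (B := el B) ?_ (key x hx) (key x⁻¹ (by rw [orderOf_inv, hx]))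
  show nfx (el A : Equiv.Perm GolayPt) ≠ nfx (el B : Equiv.Perm GolayPt)
  rw [nfx_elA, nfx_elB]
  norm_num

end twentyfour

theorem row_M24 {G : Type u} [Group G] [Finite G] (h : Spor.IsoM24 G) : Row G := by
  refine row_of_dat (dat_m24 h) (l := [(2, 10), (3, 3), (5, 1), (7, 1), (11, 1), (23, 1)]) (by decide +kernel)
    (by norm_num) (fun x hx hx2 hx3 => ?_)
  simp only [List.mem_cons, List.not_mem_nil, or_false] at hx
  rcases hx with rfl | rfl | rfl | rfl | rfl | rfl
  · exact absurd rfl hx3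
  · obtain ⟨e⟩ := h
    have : Finite M24 := Finite.of_equiv G e.toEquiv
    exact (moved_of_real Nat.prime_three (by norm_num) fun y hy => real_m24 hy).congr e
  · exact absurd hx2 (by norm_num)
  · exact absurd hx2 (by norm_num)
  · exact absurd hx2 (by norm_num)
  · exact absurd hx2 (by norm_num)

/-! ### `J₁` -/

theorem dat_j1 {K : Type u} [Group K] (h : Spor.IsoJ1 K) : Dat K 175560 where
  simple := by
    obtain ⟨e⟩ := h
    exact (MulEquiv.isSimpleGroup_congr e).2 Cfsg.Agent.SporadicB.J1.Main.isJ1.1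
  card := by
    obtain ⟨e⟩ := h
    rw [Nat.card_congr e.toEquiv, Cfsg.Agent.SporadicB.J1.Main.isJ1.2]
  inn := by
    obtain ⟨e⟩ := h
    exact OddInn.congr e (BpSpor.Inn.of_inner fun α => Cfsg.Agent.OddHalf.D4.Spor.J1Out.inn α)

theorem row_J1 {G : Type u} [Group G] [Finite G] (h : Spor.IsoJ1 G) : Row G := by
  refine row_of_dat (dat_j1 h) (l := [(2, 3), (3, 1), (5, 1), (7, 1), (11, 1), (19, 1)]) (by decide +kernel)
    (by norm_num) (fun x hx hx2 hx3 => ?_)
  simp only [List.mem_cons, List.not_mem_nil, or_false] at hx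
  rcases hx with rfl | rfl | rfl | rfl | rfl | rfl
  · exact absurd rfl hx3
  all_goals exact absurd hx2 (by norm_num)

end Cfsg.Agent.H497.Stein
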