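import Cfsg.Agent.H497.Stein.Heis
import Cfsg.Agent.H497.Stein.Mat
import Cfsg.Agent.H792.Sp.ConwayFive
import Cfsg.Agent.BpSpor.Row.HS
import Cfsg.Agent.UGT.End.McLOuter
import Cfsg.Agent.TypeM.FactsMcL
import Cfsg.Agent.Schreier.McLaughlin
import Cfsg.Agent.McLType.ThreeElts
import Cfsg.Agent.CoOneType.Thirteen

/-!
# S4114: the rows `HS` and `McL` (helper497)
-/

set_option autoImplicit false
set_option linter.unusedSectionVars false

namespace Cfsg.Agent.H497.Stein

open Subgroup Cfsg Cfsg.Agent.H520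
open Cfsg.Agent.BpSpor (Dat)
open Cfsg.Agent.BpSpor.Inn (OddInn)

universe u

/-! ### `p = 5` from `PSU₃(5)` -/

section five

open Cfsg.Agent.H792.SpU35 Cfsg.Agent.SporStruct.U35K50 Cfsg.Agent.H792.SpCube

theorem moved_K50 : Moved 5 K50 := by
  have hp : Fact (Nat.Prime 5) := ⟨by norm_num⟩
  have hcx : c * x * c⁻¹ = y := rfl
  refine moved_of_heis' (p := 5) (by norm_num) (by rw [card_K50]; norm_num) heis (c := c * c) (a := 3) (u := 0) (v := 0)
    (by norm_num) (by norm_num) ?_ ?_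
  · calc c * c * x * (c * c)⁻¹ = c * (c * x * c⁻¹) * c⁻¹ := by group
      _ = c * y * c⁻¹ := by rw [hcx]
      _ = x * x * x := cy
      _ = x ^ 3 * z ^ (0 : ℤ) := by rw [zpow_zero, mul_one, pow_succ, pow_two]
  · calc c * c * y * (c * c)⁻¹ = c * (c * y * c⁻¹) * c⁻¹ := by group
      _ = c * (x * x * x) * c⁻¹ := by rw [cy]
      _ = (c * x * c⁻¹) * (c * x * c⁻¹) * (c * x * c⁻¹) := by group
      _ = y * y * y := by rw [hcx]
      _ = y ^ 3 * z ^ (0 : ℤ) := by rw [zpow_zero, mul_one, pow_succ, pow_two]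

/-- a subgroup of the automorphism group of the lattice containing `PSU₃(5)` with index prime to `5` -/
theorem Tri.moved {v w x : leechLattice} (T : Tri v w x) (K : Subgroup (Equiv.Perm leechLattice)) [Finite K] {m : ℕ}
    (hm : Nat.card K = 5 ^ 3 * m) (h5 : ¬ 5 ∣ m)
    (hK : ∀ g : Co0, g • v = v → g • w = w → g • x = x → (g : Equiv.Perm leechLattice) ∈ K) : Moved 5 K := by
  have hp : Fact (Nat.Prime 5) := ⟨by norm_num⟩
  obtain ⟨F, _, _, hF⟩ := exists_field
  obtain ⟨e⟩ := T.exists_hom hF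
  obtain ⟨e'⟩ := Cfsg.Agent.SporStruct.U35Iso.psu35_iso F hF
  let W := MulAction.stabilizer Co0 v ⊓ MulAction.stabilizer Co0 w ⊓ MulAction.stabilizer Co0 x
  let f : W →* K := (Co0.subtype.comp W.subtype).codRestrict K fun g => hK g.1 g.2.1.1 g.2.1.2 g.2.2
  have hf : Function.Injective f := by
    intro a b h
    have h1 := congrArg Subtype.val h
    exact Subtype.ext (Subtype.ext h1)
  have h1 : Moved 5 W := moved_K50.congr (e.symm.trans e')
  have hW : Nat.card W = 126000 := by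
    rw [← card_K50]
    exact Nat.card_congr (e.symm.trans e').toEquiv
  refine Moved.of_hom f hf (fun k hk => ?_) h1
  rw [hm] at hk
  rw [hW]
  exact (pow_dvd_of (by norm_num) h5 hk).trans (by norm_num)

end five

/-! ### `HS` -/

section hs

open Cfsg.Agent.H792.SpU35 Cfsg.Agent.SporadicA.Co0Mono Cfsg.Agent.SporadicA.MathieuRecog
open Cfsg.Agent.CoOneType.Thirteen (permCo0_injective)

theorem finite_HS : Finite Spor.HS := Nat.finite_of_card_ne_zero (by rw [card_HS]; norm_num)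

theorem smul_V {σ : M24} (h : (σ : Equiv.Perm GolayPt) none = none) : permCo0 σ • Spor.leechV = Spor.leechV := by
  apply Subtype.ext
  rw [permCo0_smul]
  funext p
  rw [permMap_apply]
  show (if (σ : Equiv.Perm GolayPt).symm p = none then (-5 : ℤ) else -1) = if p = none then -5 else -1
  have h1 : (σ : Equiv.Perm GolayPt).symm p = none ↔ p = none := by
    rw [Equiv.symm_apply_eq, h]
  simp only [h1]

theorem smul_U' {σ : M24} (h : (σ : Equiv.Perm GolayPt) none = none) (h0 : (σ : Equiv.Perm GolayPt) (some 0) = some 0) :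
    permCo0 σ • Spor.leechU' = Spor.leechU' := by
  apply Subtype.ext
  rw [permCo0_smul]
  funext p
  rw [permMap_apply]
  show (if (σ : Equiv.Perm GolayPt).symm p = none then (4 : ℤ) else
    if (σ : Equiv.Perm GolayPt).symm p = some 0 then -4 else 0) = if p = none then 4 else if p = some 0 then -4 else 0
  have h1 : (σ : Equiv.Perm GolayPt).symm p = none ↔ p = none := by
    rw [Equiv.symm_apply_eq, h]
  have h2 : (σ : Equiv.Perm GolayPt).symm p = some 0 ↔ p = some 0 := by
    rw [Equiv.symm_apply_eq, h0]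
  simp only [h1, h2]

/-- `M₂₂ ≤ HS` -/
theorem exists_mHS : ∃ f : Spor.M22 →* Spor.HS, Function.Injective f := by
  have hle : Spor.M22 ≤ M24 := fun g hg => ((mem_M22_iff g).1 hg).1
  let i : Spor.M22 →* M24 := inclusion hle
  let f : Spor.M22 →* Spor.HS := (Co0.subtype.comp (permCo0.comp i)).codRestrict Spor.HS fun g =>
    ⟨⟨(permCo0 (i g)).2, smul_V ((mem_M22_iff g.1).1 g.2).2.1⟩,
      smul_U' ((mem_M22_iff g.1).1 g.2).2.1 ((mem_M22_iff g.1).1 g.2).2.2⟩
  refine ⟨f, fun a b h => ?_⟩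
  have h1 : (f a : Equiv.Perm leechLattice) = f b := by rw [h]
  have h2 : permCo0 (i a) = permCo0 (i b) := Subtype.ext h1
  exact inclusion_injective hle (permCo0_injective h2)

theorem moved_hs_three : Moved 3 Spor.HS := by
  have := finite_HS
  have : Fact (Nat.Prime 3) := ⟨Nat.prime_three⟩
  obtain ⟨f, hf⟩ := exists_mHS
  refine Moved.of_hom f hf (fun k hk => ?_) moved_m22
  rw [card_HS, show (44352000 : ℕ) = 3 ^ 2 * 4928000 by norm_num] at hk
  rw [card_M22]
  exact (pow_dvd_of Nat.prime_three (by norm_num) hk).trans (by norm_num)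

theorem moved_hs_five : Moved 5 Spor.HS := by
  have := finite_HS
  obtain ⟨x, T⟩ := exists_tri sq_V hs_pair.1 hs_pair.2
  exact Tri.moved T Spor.HS (m := 354816) (by rw [card_HS]; norm_num) (by norm_num) fun g h1 h2 _ => mem_HS h1 h2

end hs

theorem row_HS {G : Type u} [Group G] [Finite G] (h : Spor.IsoHS G) : Row G := by
  refine row_of_dat (Cfsg.Agent.BpSpor.Row.dat_hs h) (l := [(2, 9), (3, 2), (5, 3), (7, 1), (11, 1)])
    (by decide +kernel) (by norm_num) (fun x hx hx2 hx3 => ?_)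
  simp only [List.mem_cons, List.not_mem_nil, or_false] at hx
  obtain ⟨e⟩ := h
  rcases hx with rfl | rfl | rfl | rfl | rfl
  · exact absurd rfl hx3
  · exact moved_hs_three.congr e
  · exact moved_hs_five.congr e
  · exact absurd hx2 (by norm_num)
  · exact absurd hx2 (by norm_num)

/-! ### `McL` -/

section mcl

open Equiv Equiv.Perm
open Cfsg.Agent.H792.SpU35

theorem cycleType_cases {y : Perm (Fin 8)} (hy : orderOf y = 3) : y.cycleType = {3} ∨ y.cycleType = {3, 3} := by
  obtain ⟨n, hn⟩ := cycleType_prime_order (σ := y) (by rw [hy]; exact Nat.prime_three)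
  rw [hy] at hn
  have h2 : y.cycleType.sum ≤ Fintype.card (Fin 8) := by
    rw [sum_cycleType]
    exact Finset.card_le_univ _
  rw [hn, Multiset.sum_replicate, Fintype.card_fin, smul_eq_mul] at h2
  have hn2 : n ≤ 1 := by omega
  rw [hn]
  interval_cases n
  · left; rfl
  · right; rfl

theorem exists_comm_swap {y : Perm (Fin 8)} (hy : orderOf y = 3) :
    ∃ a b : Fin 8, a ≠ b ∧ swap a b * y = y * swap a b := by
  have hs : y.support.card ≤ 6 := by
    rw [← sum_cycleType]
    rcases cycleType_cases hy with h | h <;> rw [h] <;> decide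
  have h1 : 2 ≤ (y.supportᶜ).card := by
    rw [Finset.card_compl, Fintype.card_fin]
    omega
  obtain ⟨a, ha, b, hb, hab⟩ := Finset.one_lt_card.1 h1
  refine ⟨a, b, hab, ?_⟩
  rw [Finset.mem_compl, mem_support, not_not] at ha hb
  rw [swap_mul_eq_mul_swap]
  have h2 : y⁻¹ a = a := by rw [inv_eq_iff_eq, ha]
  have h3 : y⁻¹ b = b := by rw [inv_eq_iff_eq, hb]
  rw [h2, h3]

/-- the elements of order 3 of the alternating group of degree 8 are real -/
theorem real_alt8 {y : Perm (Fin 8)} (hy : orderOf y = 3) :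
    ∃ a ∈ alternatingGroup (Fin 8), a * y * a⁻¹ = y⁻¹ := by
  have h1 : IsConj y y⁻¹ := by rw [isConj_iff_cycleType_eq, cycleType_inv]
  obtain ⟨c, hc⟩ := isConj_iff.1 h1
  by_cases hs : sign c = 1
  · exact ⟨c, mem_alternatingGroup.2 hs, hc⟩
  · obtain ⟨a, b, hab, hcomm⟩ := exists_comm_swap hy
    refine ⟨c * swap a b, mem_alternatingGroup.2 ?_, ?_⟩
    · rw [Perm.sign_mul, sign_swap hab, (Int.units_eq_one_or (sign c)).resolve_left hs]
      rfl
    · calc c * swap a b * y * (c * swap a b)⁻¹ = c * (swap a b * y) * (swap a b)⁻¹ * c⁻¹ := by group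
        _ = c * (y * swap a b) * (swap a b)⁻¹ * c⁻¹ := by rw [hcomm]
        _ = c * y * c⁻¹ := by group
        _ = y⁻¹ := hc

theorem real_cover {C : Type*} [Group C] (K : Cfsg.Agent.SporRec.TwoAn.Cover (Fin 8) C) {y : C} (hy : orderOf y = 3)
    (hz : ∀ g : C, g * K.z = K.z * g) : IsConj y y⁻¹ := by
  have hy3 : y ^ 3 = 1 := orderOf_dvd_iff_pow_eq_one.1 hy.dvd
  have hzz : K.z * K.z = 1 := K.z_mul_z
  have hyb : orderOf (K.π y) = 3 := by
    refine orderOf_eq_prime (by rw [← map_pow, hy3, map_one]) fun h => ?_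
    rcases (K.ker y).1 h with h1 | h1
    · rw [h1, orderOf_one] at hy
      omega
    · rw [h1] at hy3
      have h2 : K.z ^ 3 = K.z := by rw [pow_succ, pow_two, hzz, one_mul]
      rw [h2] at hy3
      exact K.z_ne hy3
  obtain ⟨a, ha, hay⟩ := real_alt8 hyb
  rw [← K.range_eq] at ha
  obtain ⟨g, rfl⟩ := ha
  have h1 : K.π (y * (g * y * g⁻¹)) = 1 := by
    rw [map_mul, map_mul, map_mul, map_inv, hay, mul_inv_cancel]
  rcases (K.ker _).1 h1 with h2 | h2
  · exact isConj_iff.2 ⟨g, by rw [eq_comm, inv_eq_iff_mul_eq_one, h2]⟩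
  · exfalso
    have h3 : g * y * g⁻¹ = y⁻¹ * K.z := by rw [← h2, inv_mul_cancel_left]
    have h4 : (g * y * g⁻¹) ^ 3 = 1 := by rw [conj_pow, hy3, mul_one, mul_inv_cancel]
    rw [h3, (show Commute y⁻¹ K.z from hz _).mul_pow, inv_pow, hy3, inv_one, one_mul, pow_succ, pow_two, hzz,
      one_mul] at h4
    exact K.z_ne h4

theorem moved_mcl_three {M : Type u} [Group M] [Finite M] (h : Spor.IsoMcL M) : Moved 3 M := by
  obtain ⟨-, -, -, ⟨L⟩⟩ := Cfsg.Agent.TypeM.FactsMcL.facts h
  refine moved_of_real Nat.prime_three (by norm_num) fun y hy => ?_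
  obtain ⟨s, hs, hsy⟩ := Cfsg.Agent.McLType.ThreeElts.exists_commuting_involution_of_iso h y hy
  have hss : s * s = 1 := by rw [← pow_two]; exact orderOf_dvd_iff_pow_eq_one.1 hs.dvd
  have hs1 : s ≠ 1 := by
    rintro rfl
    rw [orderOf_one] at hs
    omega
  obtain ⟨g, hg⟩ := L.one s hss hs1
  have hc : g⁻¹ * y * g ∈ centralizer ({L.t} : Set M) := by
    rw [mem_centralizer_singleton_iff]
    calc g⁻¹ * y * g * L.t = g⁻¹ * (y * (g * L.t * g⁻¹)) * g := by group
      _ = g⁻¹ * ((g * L.t * g⁻¹) * y) * g := by rw [hg, hsy]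
      _ = L.t * (g⁻¹ * y * g) := by group
  have hzc : ∀ k : ↥(centralizer ({L.t} : Set M)), k * L.K.z = L.K.z * k := by
    intro k
    apply Subtype.ext
    show (k : M) * (L.K.z : M) = L.K.z * k
    rw [L.hz]
    exact mem_centralizer_singleton_iff.1 k.2
  have ho : orderOf (⟨g⁻¹ * y * g, hc⟩ : ↥(centralizer ({L.t} : Set M))) = 3 := by
    rw [orderOf_mk, ← hy]
    have h1 : g⁻¹ * y * g = MulAut.conj g⁻¹ y := by rw [MulAut.conj_apply, inv_inv]
    rw [h1, MulEquiv.orderOf_eq]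
  obtain ⟨k, hk⟩ := isConj_iff.1 (real_cover L.K ho hzc)
  have hk' : (k : M) * (g⁻¹ * y * g) * (k : M)⁻¹ = (g⁻¹ * y * g)⁻¹ := congrArg Subtype.val hk
  refine isConj_iff.2 ⟨g * k * g⁻¹, ?_⟩
  calc g * (k : M) * g⁻¹ * y * (g * k * g⁻¹)⁻¹ = g * ((k : M) * (g⁻¹ * y * g) * (k : M)⁻¹) * g⁻¹ := by group
    _ = y⁻¹ := by rw [hk']; group

theorem moved_mcl_five : Moved 5 Spor.McL := by
  have : Finite Spor.McL := Nat.finite_of_card_ne_zero (by rw [card_McL]; norm_num)
  obtain ⟨x, T⟩ := exists_tri_mcl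
  exact Tri.moved T Spor.McL (m := 7185024) (by rw [card_McL]; norm_num) (by norm_num)
    fun g _ h1 h2 => ⟨⟨g.2, h1⟩, h2⟩

theorem dat_mcl {K : Type u} [Group K] (h : Spor.IsoMcL K) : Dat K 898128000 where
  simple := by
    obtain ⟨e⟩ := h
    exact (MulEquiv.isSimpleGroup_congr e).2 Cfsg.Agent.Schreier.McLaughlin.isSimple_mcl
  card := by
    obtain ⟨e⟩ := h
    rw [Nat.card_congr e.toEquiv, Cfsg.Agent.Schreier.McLaughlin.card_mcl]
  inn := by
    obtain ⟨hfin, hs, hcard, ⟨L⟩⟩ := Cfsg.Agent.TypeM.FactsMcL.facts h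
    intro p hp hp2 α hα
    have h1 : Odd (orderOf α) := by
      rw [hα]
      exact hp.odd_of_ne_two hp2
    obtain ⟨g, hg⟩ := Cfsg.Agent.UGT.End.McLOuter.inner_of_odd L hcard α h1
    exact ⟨g, hg.symm⟩

end mcl

theorem row_McL {G : Type u} [Group G] [Finite G] (h : Spor.IsoMcL G) : Row G := by
  refine row_of_dat (dat_mcl h) (l := [(2, 7), (3, 6), (5, 3), (7, 1), (11, 1)])
    (by decide +kernel) (by norm_num) (fun x hx hx2 hx3 => ?_)
  simp only [List.mem_cons, List.not_mem_nil, or_false] at hx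
  rcases hx with rfl | rfl | rfl | rfl | rfl
  · exact absurd rfl hx3
  · exact moved_mcl_three h
  · obtain ⟨e⟩ := h
    exact moved_mcl_five.congr e
  · exact absurd hx2 (by norm_num)
  · exact absurd hx2 (by norm_num)

end Cfsg.Agent.H497.Stein
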