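import Cfsg.Agent.H497.Stein.Eng

/-!
# Rows of S4114: one prime `r` may be left to the commuting pairs `(y, s)`, `|y| = r`, `|s| = 2` (helper497)

If all automorphisms of `G` of order `2` and `r` are inner and all other odd primes are excluded by `Moved`, the order of a
minimal configuration is divisible by `2 r`; so only the elements of order `r` commuting with an involution matter.
-/

set_option autoImplicit false

namespace Cfsg.Agent.H497.Stein

open Subgroup Cfsg Cfsg.Agent.H520
open Cfsg.Agent.CpAut (AutInner)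

universe u

variable {G : Type u} [Group G]

/-- elements of order `p` commuting with an element of order `q` are conjugate to a different power -/
def MovedPair (p q : ℕ) (G : Type*) [Group G] : Prop :=
  ∀ y s : G, orderOf y = p → orderOf s = q → s * y = y * s → MovedAt y

theorem MovedPair.congr {H : Type*} [Group H] {p q : ℕ} (e : G ≃* H) (h : MovedPair p q H) : MovedPair p q G := by
  intro y s hy hs hsy
  have h1 := h (e y) (e s) (by rw [MulEquiv.orderOf_eq, hy]) (by rw [MulEquiv.orderOf_eq, hs])
    (by rw [← map_mul, hsy, map_mul])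
  have h2 := h1.map e.symm.toMonoidHom e.symm.injective
  have h3 : e.symm.toMonoidHom (e y) = y := e.symm_apply_apply y
  rwa [h3] at h2

theorem moved_of_pair {p q : ℕ} (h : MovedPair p q G) (he : ∀ y : G, orderOf y = p → ∃ s : G, orderOf s = q ∧ s * y = y * s) :
    Moved p G := by
  intro y hy
  obtain ⟨s, hs, hsy⟩ := he y hy
  exact h y s hy hs hsy

/-- **the pair engine**: `p q ∤ |α|`. -/
theorem not_dvd_of_pair [Finite G] {α : MulAut G} (h : Cfg α) {p q : ℕ} (hp : p.Prime) (hq : q.Prime)
    (hip : AutInner p G) (hiq : AutInner q G) (hm : MovedPair p q G) (hdp : p ∣ orderOf α) : ¬ q ∣ orderOf α := by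
  intro hdq
  obtain ⟨x, hx, hxo⟩ := exists_prime_order hp hdp
  obtain ⟨t, ht, hto⟩ := exists_prime_order hq hdq
  obtain ⟨y, rfl⟩ := hip x hxo
  obtain ⟨s, rfl⟩ := hiq t hto
  have hinj : Function.Injective (MulAut.conj : G →* MulAut G) := fun a b hab => conj_inj h.center_bot hab
  have hy : orderOf y = p := by rw [← hxo]; exact (orderOf_injective _ hinj y).symm
  have hs : orderOf s = q := by rw [← hto]; exact (orderOf_injective _ hinj s).symm
  have hc : s * y = y * s := by
    apply hinj
    rw [map_mul, map_mul]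
    exact (Cfg.comm_zpowers ht hx).eq
  exact not_movedAt h hx (hm y s hy hs hc)

/-- **Rows with one open prime.** -/
theorem row_of_pair [Finite G] {r : ℕ} (hr : r.Prime) (h2 : 2 ∣ Nat.card G) (hrG : r ∣ Nat.card G)
    (hi : ∀ p : ℕ, p.Prime → AutInner p G)
    (hm : ∀ p : ℕ, p.Prime → p ≠ 2 → p ≠ r → p ∣ Nat.card G → Moved p G) (hpair : MovedPair r 2 G) : Row G := by
  intro α h
  have key : ∀ p : ℕ, p.Prime → p ∣ orderOf α → p = 2 ∨ p = r := by
    intro p hp hd
    by_contra hcon
    push Not at hcon
    by_cases hpG : p ∣ Nat.card G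
    · exact not_dvd_of_moved h hp (hi p hp) (hm p hp hcon.1 hcon.2 hpG) hd
    · refine not_dvd_of_moved h hp (hi p hp) (fun y hy => absurd ?_ hpG) hd
      rw [← hy]
      exact orderOf_dvd_natCard y
  obtain ⟨p, hp, hp2, hd⟩ := h.exists_prime_ne Nat.prime_two h2
  have hpr : p = r := (key p hp hd).resolve_left hp2
  subst hpr
  obtain ⟨q, hq, hqr, hdq⟩ := h.exists_prime_ne hp hrG
  have hq2 : q = 2 := (key q hq hdq).resolve_right hqr
  subst hq2
  exact not_dvd_of_pair h hp Nat.prime_two (hi _ hp) (hi _ Nat.prime_two) hpair hd hdq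

end Cfsg.Agent.H497.Stein
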