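import Cfsg.Agent.H497.Stein.Mat
import Cfsg.Agent.H497.Stein.Jan
import Cfsg.Agent.H497.Stein.HSMc

/-!
# S4114, SPOR-1: the rows `M₁₁`, `M₁₂`, `M₂₂`, `M₂₃`, `M₂₄`, `J₁`, `J₂`, `J₃`, `HS`, `McL` (helper497)

`Cfsg.Agent.H497.Stein.row_M11`, `row_M12`, `row_M22`, `row_M23`, `row_M24`, `row_J1`, `row_J2`, `row_J3`, `row_HS`,
`row_McL`.
-/
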