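import Cfsg.Agent.H497.Stein.Pair
import Cfsg.Agent.H513.AbTh

/-!
# S4114: the row `Th` (helper497)

The elements of order 3, 5, 7 of `C(a) = 2^{1+8}.A₉` are real (their images in `A₉` are). The elements of order 5 and 7 of
`Th` commute with involutions; for 3 the pair engine is enough.
-/

set_option autoImplicit false
set_option maxRecDepth 100000

namespace Cfsg.Agent.H497.Stein.Th

open Subgroup Cfsg Cfsg.Agent.H520 Cfsg.Agent.H497.Stein
open Cfsg.Agent.Th.Base Cfsg.Agent.Th.Word Cfsg.Agent.Th.KOracle Cfsg.Agent.Th.CStruct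
  Cfsg.Agent.Th.COracleDef Cfsg.Agent.Th.IndexUpper
open Cfsg.Agent.KFacts.Th.Mask Cfsg.Agent.KFacts.Th.Struct
open Cfsg.Agent.CpAutTh.Data Cfsg.Agent.CpAutTh.Alt Cfsg.Agent.CpAutTh.Local

universe u

section

variable {G : Type u} [Group G] {γ : ℕ → G} (h : Ctx γ)
  {f : sub γ isC →* alternatingGroup (Fin 9)} (F : Epi γ f)
include h F

theorem real_word {p : ℕ} (hp : p.Prime) (hp2 : p ≠ 2) {X : List ℕ} (hX : ∀ x ∈ X, isC x = true)
    (ho : orderOf (⟨ev γ X, ev_mem_sub hX⟩ : sub γ isC) = p) (c : Equiv.Perm (Fin 9)) (hc : Equiv.Perm.sign c = -1)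
    (hcc : c * pm9 X = pm9 X * c) :
    ∃ g : sub γ isC, g * (⟨ev γ X, ev_mem_sub hX⟩ : sub γ isC)⁻¹ * g⁻¹ = ⟨ev γ X, ev_mem_sub hX⟩ := by
  refine conj_rep h F hp hp2 (by rw [orderOf_inv, ho]) ho ?_ c hc (by rw [F.word X hX]; exact hcc)
  rw [map_inv, InvMemClass.coe_inv, Equiv.Perm.cycleType_inv]

omit h F in
theorem real_of_rep {C : Type*} [Group C] {x w g k : C} (hg : g * x * g⁻¹ = w) (hk : k * w⁻¹ * k⁻¹ = w) : IsConj x x⁻¹ := by
  have h1 : IsConj x w := isConj_iff.2 ⟨g, hg⟩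
  have h2 : IsConj w⁻¹ w := isConj_iff.2 ⟨k, hk⟩
  have h3 : IsConj x⁻¹ w⁻¹ := isConj_iff.2 ⟨g, by rw [← hg]; group⟩
  exact h1.trans (h3.trans h2).symm

theorem real_C {p : ℕ} (h357 : p = 3 ∨ p = 5 ∨ p = 7) {x : sub γ isC} (hx : orderOf x = p) : IsConj x x⁻¹ := by
  rcases h357 with rfl | rfl | rfl
  · obtain ⟨g, hg | hg | hg⟩ := exists_rep_three h F hx
    · obtain ⟨k, hk⟩ := real_word h F Nat.prime_three (by norm_num) c3 (o3 h F) c01 s01 m3
      exact real_of_rep hg hk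
    · obtain ⟨k, hk⟩ := real_word h F Nat.prime_three (by norm_num) c33 (o33 h F) c01 s01 m33
      exact real_of_rep hg hk
    · obtain ⟨k, hk⟩ := real_word h F Nat.prime_three (by norm_num) c333 (o333 h F) ccc sccc m333
      exact real_of_rep hg hk
  · obtain ⟨g, hg⟩ := exists_rep_five h F hx
    obtain ⟨k, hk⟩ := real_word h F Nat.prime_five (by norm_num) c5 (o5 h F) c01 s01 m5
    exact real_of_rep hg hk
  · obtain ⟨g, hg⟩ := exists_rep_seven h F hx
    obtain ⟨k, hk⟩ := real_word h F (by norm_num) (by norm_num) c7 (o7 h F) c01 s01 m7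
    exact real_of_rep hg hk

end

instance fin : Finite Spor.Th := Cfsg.Agent.KFacts.Th.Main.finite

/-- elements of order 3, 5, 7 commuting with an involution are real -/
theorem real_pair {p : ℕ} (h357 : p = 3 ∨ p = 5 ∨ p = 7) {y s : Spor.Th} (hy : orderOf y = p) (hs : orderOf s = 2)
    (hsy : s * y = y * s) : IsConj y y⁻¹ := by
  have h := Cfsg.Agent.KFacts.Th.Main.ctx
  obtain ⟨f, F⟩ := exists_epi h
  obtain ⟨g, hg⟩ := Cfsg.Agent.ThFive.hone s hs
  have h1 : g * y * g⁻¹ ∈ sub gTh isC := by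
    rw [h.mem_C, ← hg]
    calc g * y * g⁻¹ * (g * s * g⁻¹) = g * (y * s) * g⁻¹ := by group
      _ = g * (s * y) * g⁻¹ := by rw [hsy]
      _ = g * s * g⁻¹ * (g * y * g⁻¹) := by group
  have h2 : orderOf (⟨g * y * g⁻¹, h1⟩ : sub gTh isC) = p := by
    rw [← hy, ← orderOf_injective (sub gTh isC).subtype (Subgroup.subtype_injective _)]
    exact orderOf_injective (MulAut.conj g).toMonoidHom (MulAut.conj g).injective y
  obtain ⟨c, hc⟩ := isConj_iff.1 (real_C h F h357 h2)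
  have h4 : IsConj (g * y * g⁻¹) (g * y * g⁻¹)⁻¹ := isConj_iff.2 ⟨c, congrArg Subtype.val hc⟩
  have h5 : IsConj y (g * y * g⁻¹) := isConj_iff.2 ⟨g, rfl⟩
  have h6 : IsConj y⁻¹ (g * y * g⁻¹)⁻¹ := isConj_iff.2 ⟨g, by group⟩
  exact h5.trans (h4.trans h6.symm)

theorem movedPair {p : ℕ} (h357 : p = 3 ∨ p = 5 ∨ p = 7) : MovedPair p 2 Spor.Th := by
  intro y s hy hs hsy
  have hp : p.Prime := by rcases h357 with rfl | rfl | rfl <;> norm_num
  have hp2 : p ≠ 2 := by rcases h357 with rfl | rfl | rfl <;> norm_num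
  exact movedAt_of_real (real_pair h357 hy hs hsy) (sq_ne_one hp hp2 hy)

theorem moved_five : Moved 5 Spor.Th :=
  moved_of_pair (movedPair (Or.inr (Or.inl rfl))) fun y hy => Cfsg.Agent.H513.NilpTh.involution y hy

theorem moved_seven : Moved 7 Spor.Th := by
  refine moved_of_pair (movedPair (Or.inr (Or.inr rfl))) fun y hy => ?_
  have h2F : Fact (Nat.Prime 2) := ⟨Nat.prime_two⟩
  have h1 : 2 ∣ Nat.card ↥(centralizer ({y} : Set Spor.Th)) := by
    rcases Cfsg.Agent.H513.AbTh.cent_seven hy with h | h <;> rw [h] <;> norm_num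
  obtain ⟨s, hs⟩ := exists_prime_orderOf_dvd_card' 2 h1
  refine ⟨s, by rw [Subgroup.orderOf_coe]; exact hs, mem_centralizer_singleton_iff.1 s.2⟩

/-- **S4114, the row `Th`.** -/
theorem row : Row Spor.Th := by
  have hs := Cfsg.Agent.H513.AbTh.simple
  have hc := Cfsg.Agent.H513.NilpTh.card
  have hv : OrdDiv.valid [(2, 15), (3, 10), (5, 3), (7, 2), (13, 1), (19, 1), (31, 1)] 90745943887872000 = true := by
    decide +kernel
  refine row_of_pair Nat.prime_three (by rw [hc]; norm_num) (by rw [hc]; norm_num)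
    (fun p _ α _ => Cfsg.Agent.KFacts.Th.Main.inner α) ?_ (movedPair (Or.inl rfl))
  intro p hp hp2 hp3 _
  have hna := not_comm_of_card hs (by rw [hc]; norm_num)
  by_cases h : p ^ 2 ∣ 90745943887872000
  · obtain ⟨k, hk, h2k⟩ := OrdDiv.exists_pair hv hp (by norm_num : 1 ≤ 2) h
    simp only [List.mem_cons, List.not_mem_nil, or_false, Prod.mk.injEq] at hk
    rcases hk with ⟨rfl, rfl⟩ | ⟨rfl, rfl⟩ | ⟨rfl, rfl⟩ | ⟨rfl, rfl⟩ | ⟨rfl, rfl⟩ | ⟨rfl, rfl⟩ | ⟨rfl, rfl⟩
    · exact absurd rfl hp2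
    · exact absurd rfl hp3
    · exact moved_five
    · exact moved_seven
    all_goals exact absurd h2k (by norm_num)
  · exact moved_of_not_sq hna hp (by rw [hc]; exact h)

theorem row_Th {G : Type u} [Group G] [Finite G] (h : Cfsg.Spor.IsoTh G) : Row G := by
  obtain ⟨e⟩ := h
  exact row.congr e

end Cfsg.Agent.H497.Stein.Th
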